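import Mathlib.Topology.Sheaves.Functors
import Mathlib.Topology.Sheaves.SheafOfFunctions
import Mathlib.Algebra.Category.Grp.Limits
import Mathlib.Algebra.Category.Grp.Colimits
import Mathlib.Algebra.Category.Grp.FilteredColimits
import Mathlib.CategoryTheory.Sites.DenseSubsite.Basic
import Mathlib.CategoryTheory.Limits.Types.Limits
import Mathlib.CategoryTheory.Limits.Types.Colimits
import Mathlib.CategoryTheory.Sites.Equivalence
import Mathlib.Algebra.Group.ULift
import Mathlib.GroupTheory.QuotientGroup.Defs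

/-!
# Quasi-homeomorphisms and inverse images of sheaves
-/

set_option autoImplicit false

universe u

open CategoryTheory TopologicalSpace Opposite

namespace Groth.Agent.QHomeoShf

variable {X₀ X : TopCat.{u}} (f : X₀ ⟶ X)

theorem map_iSup {ι : Type*} (U : ι → Opens X) :
    (Opens.map f).obj (⨆ i, U i) = ⨆ i, (Opens.map f).obj (U i) := by
  ext x; simp

theorem le_of_map_le (h : Function.Injective fun U : Opens X => (Opens.map f).obj U) {U V : Opens X}
    (hle : (Opens.map f).obj U ≤ (Opens.map f).obj V) : U ≤ V := by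
  have : U ⊓ V = U := h (Opens.ext (Set.inter_eq_left.2 hle))
  exact this ▸ inf_le_right

theorem isEquivalence_map (h : Function.Bijective fun U : Opens X => (Opens.map f).obj U) :
    (Opens.map f).IsEquivalence where
  full := ⟨fun {_ _} e => ⟨homOfLE (le_of_map_le f h.1 (leOfHom e)), Subsingleton.elim _ _⟩⟩
  faithful := ⟨fun {_ _} a b _ => Subsingleton.elim a b⟩
  essSurj := ⟨fun W => ⟨(h.2 W).choose, ⟨eqToIso (h.2 W).choose_spec⟩⟩⟩

theorem isDenseSubsite (h : Function.Bijective fun U : Opens X => (Opens.map f).obj U) :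
    (Opens.map f).IsDenseSubsite (Opens.grothendieckTopology X) (Opens.grothendieckTopology X₀) := by
  have := isEquivalence_map f h
  refine { isLocallyFull' := inferInstance, isLocallyFaithful' := inferInstance, isCoverDense' := inferInstance,
           functorPushforward_mem_iff := fun {U S} => ⟨fun hS => ?_, fun hS => ?_⟩ }
  · intro y hy
    let T : { V : Opens X // ∃ a : V ⟶ U, S a } → Opens X := fun V => V.1
    have hle : U ≤ ⨆ V, T V := le_of_map_le f h.1 fun z hz => by
      obtain ⟨W, b, ⟨V, a, c, ha, -⟩, hzW⟩ := hS z hz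
      rw [map_iSup]
      exact Opens.mem_iSup.2 ⟨⟨V, a, ha⟩, leOfHom c hzW⟩
    obtain ⟨⟨V, a, ha⟩, hyV⟩ := Opens.mem_iSup.1 (hle hy)
    exact ⟨V, a, ha, hyV⟩
  · intro z hz
    obtain ⟨V, a, ha, hzV⟩ := hS (f z) hz
    exact ⟨(Opens.map f).obj V, (Opens.map f).map a, Sieve.image_mem_functorPushforward _ _ ha, hzV⟩

theorem isEquivalence_pushforward (h : Function.Bijective fun U : Opens X => (Opens.map f).obj U)
    (A : Type*) [Category.{u} A] [Limits.HasLimits A] :
    (TopCat.Sheaf.pushforward A f).IsEquivalence := by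
  have := isDenseSubsite f h
  exact inferInstanceAs ((Opens.map f).sheafPushforwardContinuous A
    (Opens.grothendieckTopology X) (Opens.grothendieckTopology X₀)).IsEquivalence

theorem bij_of_isEquivalence_pullback_type [(TopCat.Sheaf.pullback (Type u) f).IsEquivalence] :
    Function.Bijective fun U : Opens X => (Opens.map f).obj U := by
  let F := TopCat.Sheaf.pushforward (Type u) f
  have : F.IsEquivalence :=
    (TopCat.Sheaf.pullbackPushforwardAdjunction (Type u) f).isEquivalence_right_of_isEquivalence_left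
  let h (Z : TopCat.{u}) (S : Set Z) : TopCat.Sheaf (Type u) Z :=
    TopCat.sheafToTypes Z fun y => ULift.{u} (PLift (y ∈ S))
  refine ⟨fun U V hUV => ?_, fun W => ?_⟩
  · have key : ∀ U V : Opens X, (Opens.map f).obj U = (Opens.map f).obj V → V ≤ U := fun U V hUV => by
      let e := F.objObjPreimageIso (h X U)
      have t : (h X U).obj.obj (op U) := fun y => ⟨⟨y.2⟩⟩
      have t' := e.hom.hom.app (op V)
        (eqToHom (congrArg (fun o => (F.objPreimage (h X U)).obj.obj (op o)) hUV) (e.inv.hom.app (op U) t))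
      exact fun y hy => (t' ⟨y, hy⟩).down.down
    exact le_antisymm (key V U hUV.symm) (key U V hUV)
  · let U₀ : Opens X := ⨆ (U : Opens X) (_ : (Opens.map f).obj U ≤ W), U
    refine ⟨U₀, Opens.ext (Set.Subset.antisymm (fun x hx => ?_) fun x hx => ?_)⟩
    · obtain ⟨U, hU⟩ := Opens.mem_iSup.1 (show f x ∈ U₀ from hx)
      obtain ⟨hUW, hxU⟩ := Opens.mem_iSup.1 hU
      exact hUW hxU
    · by_contra hx'
      let W' : Opens X₀ := W ⊓ ⟨(closure {x})ᶜ, isClosed_closure.isOpen_compl⟩
      have hle : ∀ U : Opens X, (Opens.map f).obj U ≤ W → (Opens.map f).obj U ≤ W' := fun U hU z hz =>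
        ⟨hU hz, fun hzc => hx' (Opens.mem_iSup.2 ⟨U, Opens.mem_iSup.2 ⟨hU,
          (specializes_iff_mem_closure.2 hzc).mem_open ((Opens.map f).obj U).isOpen hz⟩⟩)⟩
      let φ : F.obj (h X₀ W) ⟶ F.obj (h X₀ W') :=
        ObjectProperty.homMk
          { app := fun V => TypeCat.ofHom fun t y =>
              ⟨⟨hle V.unop (fun z hz => (t ⟨z, hz⟩).down.down) y.2⟩⟩
            naturality := fun _ _ _ => rfl }
      have t : (h X₀ W).obj.obj (op W) := fun y => ⟨⟨y.2⟩⟩
      exact (((F.preimage φ).hom.app (op W) t) ⟨x, hx⟩).down.down.2 (subset_closure rfl)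

/-- Functions on a subset with values in an abelian group. -/
noncomputable def funSheaf (Z : TopCat.{u}) (D : Set Z) (A : Type u) [AddCommGroup A] :
    TopCat.Sheaf AddCommGrpCat.{u} Z where
  obj :=
    { obj := fun V => AddCommGrpCat.of (∀ y : V.unop, PLift ((y : Z) ∈ D) → A)
      map := fun i => AddCommGrpCat.ofHom
        { toFun := fun g y => g (Set.inclusion (leOfHom i.unop) y)
          map_zero' := rfl
          map_add' := fun _ _ => rfl } }
  property := (TopCat.Presheaf.isSheaf_iff_isSheaf_comp (CategoryTheory.forget AddCommGrpCat.{u}) _).2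
    (TopCat.Presheaf.toTypes_isSheaf Z fun y => (PLift (y ∈ D) → A))

theorem bij_of_isEquivalence_pullback_ab [(TopCat.Sheaf.pullback AddCommGrpCat.{u} f).IsEquivalence] :
    Function.Bijective fun U : Opens X => (Opens.map f).obj U := by
  classical
  let F := TopCat.Sheaf.pushforward AddCommGrpCat.{u} f
  have : F.IsEquivalence :=
    (TopCat.Sheaf.pullbackPushforwardAdjunction _ f).isEquivalence_right_of_isEquivalence_left
  let A : Type u := ULift.{u} ℤ
  refine ⟨fun U V hUV => ?_, fun W => ?_⟩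
  · have key : ∀ U V : Opens X, (Opens.map f).obj U = (Opens.map f).obj V → V ≤ U := fun U V hUV y hy => by
      by_contra hyU
      let G := funSheaf X (U : Set X)ᶜ A
      let e := F.objObjPreimageIso G
      let i : G.obj.obj (op U) ≅ G.obj.obj (op V) :=
        ((TopCat.Sheaf.forget _ _).mapIso e.symm).app (op U) ≪≫
          eqToIso (congrArg (fun o => (F.objPreimage G).obj.obj (op o)) hUV) ≪≫
          ((TopCat.Sheaf.forget _ _).mapIso e).app (op V)
      let s : G.obj.obj (op V) := fun _ _ => (ULift.up 1 : A)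
      have hsub : i.inv s = i.inv 0 := by
        funext z hz
        exact absurd z.2 hz.down
      have : s = 0 := (ConcreteCategory.bijective_of_isIso i.inv).1 hsub
      have := congrFun (congrFun this ⟨y, hy⟩) ⟨hyU⟩
      exact one_ne_zero (congrArg ULift.down this)
    exact le_antisymm (key V U hUV.symm) (key U V hUV)
  · let U₀ : Opens X := ⨆ (U : Opens X) (_ : (Opens.map f).obj U ≤ W), U
    refine ⟨U₀, Opens.ext (Set.Subset.antisymm (fun x hx => ?_) fun x hx => ?_)⟩
    · obtain ⟨U, hU⟩ := Opens.mem_iSup.1 (show f x ∈ U₀ from hx)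
      obtain ⟨hUW, hxU⟩ := Opens.mem_iSup.1 hU
      exact hUW hxU
    · by_contra hx'
      let N : AddSubgroup (X₀ → A) :=
        { carrier := {s | ∃ U : Opens X, f x ∈ U ∧ ∀ z, f z ∈ U → z ∉ W → s z = 0}
          zero_mem' := ⟨⊤, trivial, fun _ _ _ => rfl⟩
          add_mem' := fun {s t} ⟨U, hxU, hs⟩ ⟨V, hxV, ht⟩ => ⟨U ⊓ V, ⟨hxU, hxV⟩,
            fun z hz hzW => by simp [hs z hz.1 hzW, ht z hz.2 hzW]⟩
          neg_mem' := fun {s} ⟨U, hxU, hs⟩ => ⟨U, hxU, fun z hz hzW => by simp [hs z hz hzW]⟩ }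
      let ext' : ∀ V : Opens X, ((funSheaf X₀ (W : Set X₀)ᶜ A).obj.obj (op ((Opens.map f).obj V))) →+ (X₀ → A) :=
        fun V => AddMonoidHom.mk' (fun g z => if h : f z ∈ V ∧ z ∉ W then (g : ∀ y : (Opens.map f).obj V, PLift ((y : X₀) ∈ (W : Set X₀)ᶜ) → A) ⟨z, h.1⟩ ⟨h.2⟩ else 0)
          fun g g' => by funext z; by_cases h : f z ∈ V ∧ z ∉ W <;> simp [h] <;> rfl
      let φ : F.obj (funSheaf X₀ (W : Set X₀)ᶜ A) ⟶
          F.obj (funSheaf X₀ {x} ((X₀ → A) ⧸ N)) :=
        ObjectProperty.homMk
          { app := fun V => AddCommGrpCat.ofHom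
              (AddMonoidHom.mk' (fun g _ _ => QuotientAddGroup.mk' N (ext' V.unop g))
                fun g g' => by funext _ _; exact (congrArg _ (map_add (ext' V.unop) g g')).trans (map_add _ _ _))
            naturality := fun V V' i => by
              ext g
              funext y hy
              refine (QuotientAddGroup.eq.2 ?_)
              refine ⟨V'.unop, (Set.mem_singleton_iff.1 hy.down) ▸ y.2, fun z hz hzW => ?_⟩
              change -(if h : f z ∈ V'.unop ∧ z ∉ W then _ else (0 : A)) + (if h : f z ∈ V.unop ∧ z ∉ W then _ else (0 : A)) = 0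
              rw [dif_pos ⟨hz, hzW⟩, dif_pos ⟨leOfHom i.unop hz, hzW⟩]
              exact neg_add_cancel _ }
      let ψ := F.preimage φ
      let one : (funSheaf X₀ (W : Set X₀)ᶜ A).obj.obj (op ⊤) := fun _ _ => (ULift.up 1 : A)
      have h1 := congrFun (congrFun (ConcreteCategory.congr_hom (ψ.hom.naturality (homOfLE (le_top : W ≤ ⊤)).op) one)
        ⟨x, hx⟩) ⟨rfl⟩
      have h2 : (funSheaf X₀ (W : Set X₀)ᶜ A).obj.map (homOfLE (le_top : W ≤ ⊤)).op one = 0 := by
        funext z hz
        exact absurd z.2 hz.down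
      have h3 : φ.hom.app (op ⊤) one = ψ.hom.app (op ⊤) one := by
        rw [← F.map_preimage φ]
        rfl
      have h4 : φ.hom.app (op ⊤) one ⟨x, trivial⟩ ⟨rfl⟩ = 0 := by
        rw [h3]
        refine h1.symm.trans ?_
        refine (congrArg (fun t => ψ.hom.app (op W) t ⟨x, hx⟩ ⟨rfl⟩) h2).trans ?_
        rw [map_zero]
        rfl
      obtain ⟨U, hxU, hU⟩ := (QuotientAddGroup.eq_zero_iff _).1 h4
      refine hx' (Opens.mem_iSup.2 ⟨U, Opens.mem_iSup.2 ⟨fun z hz => ?_, hxU⟩⟩)
      by_contra hzW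
      have h5 : (if h : f z ∈ (⊤ : Opens X) ∧ z ∉ W then (one ⟨z, trivial⟩ ⟨h.2⟩) else 0) = 0 := hU z hz hzW
      rw [dif_pos ⟨trivial, hzW⟩] at h5
      exact one_ne_zero (congrArg ULift.down h5)

end Groth.Agent.QHomeoShf
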